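import Cfsg.Agent.H762.RatB.J4
import Cfsg.Agent.H858.VK
import Cfsg.Agent.H825.HT.Tools

/-!
# S4933, the fourth Janko group, `p = 3` (helper299)

The constituent of degree 35411145 of the permutation character of degree 173067389 of `J₄` lies in the principal
3-block.  `ω_χ(K) = ∑_{x ∈ K} v (lab x)` with the spherical function `v`; a Sylow 3-subgroup `U ≤ 2 ^ 11 : M24` acts on
the intersections of `K` with the double cosets: an element commuting with a subgroup of order 9 of `U` commutes with the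
involution `e ∈ 2 ^ 11` centralizing `U`, so it is not in a double coset of size at least `3400320 |B|`.
-/

set_option autoImplicit false
set_option linter.style.longLine false

open Cfsg

noncomputable section

namespace Cfsg.Agent.H299.HT

open Subgroup
open scoped Classical

/-! ### abstract part -/

section abs

variable {G : Type*} [Group G]

/-- the central character from the spherical function -/
theorem centralChar_eq_sum [Fintype G] (χ : IrrCharacter G) (B : Subgroup G) [Fintype B] {m : ℕ} (lab : G → Fin m)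
    (v : Fin m → ℂ) (h : ∀ g, ∑ b : B, (χ : G → ℂ) (g * b) = Nat.card B * v (lab g)) (h1 : v (lab 1) = 1) (g : G) :
    centralChar (χ : G → ℂ) g = ∑ x ∈ Finset.univ.filter (fun x : G => IsConj g x), v (lab x) := by
  have hB : ((Nat.card B : ℕ) : ℂ) ≠ 0 := by exact_mod_cast Nat.card_pos.ne'
  have hχ1 := Cfsg.Agent.Blocks.Basic.irr_one_ne_zero χ.2
  have hC : ((Nat.card (centralizer ({g} : Set G)) : ℕ) : ℂ) ≠ 0 := by exact_mod_cast Nat.card_pos.ne'
  have e1 := Cfsg.Agent.Blocks.CliffordCentral.sum_conj_eq g (fun x => v (lab x))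
  have e2 : ∑ a : G, ∑ b : B, (χ : G → ℂ) (a * g * a⁻¹ * b) =
      (Nat.card B : ℂ) * ∑ a : G, v (lab (a * g * a⁻¹)) := by
    rw [Finset.mul_sum]
    exact Finset.sum_congr rfl fun a _ => h _
  have e3 : ∑ a : G, ∑ b : B, (χ : G → ℂ) (a * g * a⁻¹ * b) =
      (Nat.card G : ℂ) * (χ : G → ℂ) g / (χ : G → ℂ) 1 * Nat.card B := by
    rw [Finset.sum_comm]
    have e4 : ∀ b : B, ∑ a : G, (χ : G → ℂ) (a * g * a⁻¹ * b) =
        (Nat.card G : ℂ) * (χ : G → ℂ) g / (χ : G → ℂ) 1 * (χ : G → ℂ) (1 * b) := by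
      intro b
      rw [Cfsg.Agent.Characters.Central.sum_char_conj_mul χ.2, one_mul]
      field_simp
    rw [Finset.sum_congr rfl fun b _ => e4 b, ← Finset.mul_sum, h 1, h1, mul_one]
  have e5 : (Nat.card (centralizer ({g} : Set G)) : ℂ) * ((centralizer ({g} : Set G)).index : ℂ) = Nat.card G := by
    exact_mod_cast (centralizer ({g} : Set G)).card_mul_index
  rw [e2, e1] at e3
  rw [centralChar]
  apply mul_left_cancel₀ hC
  apply mul_left_cancel₀ hB
  rw [e3, ← e5]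
  field_simp

/-- the number of points when all orbits have length divisible by `d` -/
theorem dvd_card_of_orbits {H : Type*} [Group H] [Finite H] {X : Type*} [Finite X] [MulAction H X] (d : ℕ)
    (h : ∀ x : X, d ∣ (MulAction.stabilizer H x).index) : d ∣ Nat.card X := by
  have := Fintype.ofFinite X
  have := Fintype.ofFinite (Quotient (MulAction.orbitRel H X))
  have e := Nat.card_congr (MulAction.selfEquivSigmaOrbits H X)
  rw [e, Nat.card_sigma]
  refine Finset.dvd_sum fun ω _ => ?_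
  have e2 : Nat.card (MulAction.orbit H (Quotient.out ω)) = (MulAction.stabilizer H (Quotient.out ω)).index := by
    rw [Subgroup.index_eq_card]
    exact Nat.card_congr (MulAction.orbitEquivQuotientStabilizer H _)
  rw [e2]
  exact h _

/-- a set normalised by `U` -/
theorem dvd_card_conj [Finite G] (U : Subgroup G) (S : Set G) (hS : ∀ u ∈ U, ∀ x ∈ S, u * x * u⁻¹ ∈ S) (d : ℕ)
    (h : ∀ x ∈ S, d ∣ ((centralizer ({x} : Set G)).subgroupOf U).index) : d ∣ Nat.card S := by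
  let act : MulAction U S :=
    { smul := fun u x => ⟨(u : G) * x * (u : G)⁻¹, hS u u.2 x x.2⟩
      one_smul := fun x => Subtype.ext (by
        show ((1 : U) : G) * x * ((1 : U) : G)⁻¹ = x
        rw [Subgroup.coe_one]; group)
      mul_smul := fun a b x => Subtype.ext (by
        show ((a * b : U) : G) * x * ((a * b : U) : G)⁻¹ = (a : G) * ((b : G) * x * (b : G)⁻¹) * (a : G)⁻¹
        rw [Subgroup.coe_mul]; group) }
  refine dvd_card_of_orbits (H := U) d fun x => ?_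
  have e : MulAction.stabilizer U x = (centralizer ({(x : G)} : Set G)).subgroupOf U := by
    ext u
    rw [MulAction.mem_stabilizer_iff, mem_subgroupOf, mem_centralizer_singleton_iff]
    constructor
    · intro h1
      have h2 : (u : G) * x * (u : G)⁻¹ = x := congrArg Subtype.val h1
      rw [mul_inv_eq_iff_eq_mul] at h2
      exact h2
    · intro h1
      apply Subtype.ext
      show (u : G) * x * (u : G)⁻¹ = x
      rw [mul_inv_eq_iff_eq_mul]
      exact h1
  rw [e]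
  exact h x x.2

/-- the counting argument: a double coset containing an element commuting with `e` is small -/
theorem card_le_of_comm [Finite G] (B V : Subgroup G) (hVB : ∀ b ∈ B, ∀ v ∈ V, b * v * b⁻¹ ∈ V) {e w : G}
    (he : e ∈ V) (D : Set G) (hD : ∀ y ∈ D, ∃ a ∈ B, ∃ b ∈ B, y = a * w * b) (hw : w * e = e * w) :
    Nat.card D ≤ Nat.card V * Nat.card V * Nat.card (centralizer ({e} : Set G)) := by
  have key : ∀ y : D, ∃ c : V × V, IsConj e (c.1 : G) ∧ (y : G)⁻¹ * c.1 * y = c.2 := by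
    rintro ⟨y, hy⟩
    obtain ⟨a, ha, b, hb, rfl⟩ := hD y hy
    refine ⟨⟨⟨a * e * a⁻¹, hVB a ha e he⟩, ⟨b⁻¹ * e * b⁻¹⁻¹, hVB _ (B.inv_mem hb) e he⟩⟩, isConj_iff.2 ⟨a, rfl⟩, ?_⟩
    show (a * w * b)⁻¹ * (a * e * a⁻¹) * (a * w * b) = b⁻¹ * e * b⁻¹⁻¹
    have h1 : w⁻¹ * e * w = e := by rw [mul_assoc, ← hw, inv_mul_cancel_left]
    calc (a * w * b)⁻¹ * (a * e * a⁻¹) * (a * w * b) = b⁻¹ * (w⁻¹ * e * w) * b := by group
      _ = b⁻¹ * e * b⁻¹⁻¹ := by rw [h1]; group
  choose f hf1 hf2 using key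
  -- the fibres
  have hfib : ∀ c : V × V, Nat.card {y : D // f y = c} ≤ Nat.card (centralizer ({e} : Set G)) := by
    intro c
    by_cases hne : Nonempty {y : D // f y = c}
    · obtain ⟨⟨y0, hy0⟩⟩ := hne
      obtain ⟨k, hk⟩ := isConj_iff.1 (hf1 y0)
      rw [hy0] at hk
      have h0 := hf2 y0
      rw [hy0] at h0
      refine Nat.card_le_card_of_injective (fun y : {y : D // f y = c} =>
        (⟨k⁻¹ * ((y.1 : G) * (y0 : G)⁻¹) * k, ?_⟩ : centralizer ({e} : Set G))) ?_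
      · rw [mem_centralizer_singleton_iff]
        have h1 := hf2 y.1
        rw [y.2] at h1
        have h2 : (y.1 : G)⁻¹ * c.1 * y.1 = (y0 : G)⁻¹ * c.1 * y0 := h1.trans h0.symm
        have h3 : ((y.1 : G) * (y0 : G)⁻¹) * c.1 = c.1 * ((y.1 : G) * (y0 : G)⁻¹) := by
          have h4 : (y.1 : G) * ((y.1 : G)⁻¹ * c.1 * y.1) * (y0 : G)⁻¹ =
              (y.1 : G) * ((y0 : G)⁻¹ * c.1 * y0) * (y0 : G)⁻¹ := by rw [h2]
          calc ((y.1 : G) * (y0 : G)⁻¹) * c.1 = (y.1 : G) * ((y0 : G)⁻¹ * c.1 * y0) * (y0 : G)⁻¹ := by group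
            _ = (y.1 : G) * ((y.1 : G)⁻¹ * c.1 * y.1) * (y0 : G)⁻¹ := h4.symm
            _ = _ := by group
        calc k⁻¹ * ((y.1 : G) * (y0 : G)⁻¹) * k * e = k⁻¹ * (((y.1 : G) * (y0 : G)⁻¹) * (k * e * k⁻¹)) * k := by group
          _ = k⁻¹ * ((k * e * k⁻¹) * ((y.1 : G) * (y0 : G)⁻¹)) * k := by rw [hk, h3]
          _ = _ := by group
      · rintro ⟨y, hy⟩ ⟨y', hy'⟩ h
        have h5 := congrArg Subtype.val h
        simp only [mul_left_inj, mul_right_inj] at h5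
        exact Subtype.ext (Subtype.ext h5)
    · rw [not_nonempty_iff] at hne
      rw [Nat.card_of_isEmpty]
      exact Nat.zero_le _
  have _ := Fintype.ofFinite D
  have _ := Fintype.ofFinite (V × V)
  have e1 : Nat.card D = ∑ c : V × V, Nat.card {y : D // f y = c} := by
    rw [← Nat.card_sigma]
    exact Nat.card_congr (Equiv.sigmaFiberEquiv f).symm
  rw [e1]
  calc ∑ c : V × V, Nat.card {y : D // f y = c} ≤ ∑ _c : V × V, Nat.card (centralizer ({e} : Set G)) :=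
        Finset.sum_le_sum fun c _ => hfib c
    _ = _ := by
        rw [Finset.sum_const, Finset.card_univ, ← Nat.card_eq_fintype_card, Nat.card_prod, smul_eq_mul]

/-- a subgroup of order at least 9 of a nonabelian group of order 27 contains the centre -/
theorem mem_of_card [Finite G] {U : Subgroup G} (hU : Nat.card U = 27) {r : G} (hr : r ∈ U) (hrc : ∀ u ∈ U, u * r = r * u)
    (hna : ∃ x ∈ U, ∃ y ∈ U, x * y ≠ y * x) (C : Subgroup G) (hC : ¬ 9 ∣ (C.subgroupOf U).index) : r ∈ C := by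
  by_contra hrC
  have h3 : Fact (Nat.Prime 3) := ⟨Nat.prime_three⟩
  have e1 := (C.subgroupOf U).card_mul_index
  rw [hU] at e1
  have hd : Nat.card (C.subgroupOf U) ∣ 3 ^ 3 := ⟨_, by rw [e1]; norm_num⟩
  obtain ⟨k, hk, e2⟩ := (Nat.dvd_prime_pow Nat.prime_three).1 hd
  rw [e2] at e1
  have hk2 : 2 ≤ k := by
    by_contra hlt
    have : k = 0 ∨ k = 1 := by omega
    rcases this with rfl | rfl
    · apply hC; rw [show (C.subgroupOf U).index = 27 by omega]; norm_num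
    · apply hC; rw [show (C.subgroupOf U).index = 9 by omega]
  obtain ⟨x, hx, y, hy, hxy⟩ := hna
  -- `C ∩ U` has index at most 3
  have hk' : k = 2 ∨ k = 3 := by omega
  rcases hk' with rfl | rfl
  · have hi : (C.subgroupOf U).index = 3 := by omega
    -- the subgroup of order 9 is commutative
    have hcomm : ∀ a b : C.subgroupOf U, a * b = b * a := by
      have hc : Nat.card (C.subgroupOf U) = 3 ^ 2 := e2
      intro a b
      exact (IsPGroup.isMulCommutative_of_card_eq_prime_sq hc).is_comm.comm a b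
    -- `U` is generated by `C ∩ U` and `r`
    have hmax : (C.subgroupOf U) ⊔ zpowers (⟨r, hr⟩ : U) = ⊤ := by
      have h1 : ((C.subgroupOf U) ⊔ zpowers (⟨r, hr⟩ : U)).index ∣ 3 := by
        rw [← hi]; exact Subgroup.index_dvd_of_le le_sup_left
      rcases (Nat.dvd_prime Nat.prime_three).1 h1 with h2 | h2
      · exact Subgroup.index_eq_one.1 h2
      · exfalso
        have h3' : Nat.card ((C.subgroupOf U) ⊔ zpowers (⟨r, hr⟩ : U) : Subgroup U) = 9 := by
          have := ((C.subgroupOf U) ⊔ zpowers (⟨r, hr⟩ : U)).card_mul_index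
          rw [h2, hU] at this
          omega
        have h4 : (C.subgroupOf U) = (C.subgroupOf U) ⊔ zpowers (⟨r, hr⟩ : U) :=
          Subgroup.eq_of_le_of_card_ge le_sup_left (by rw [h3', e2]; norm_num)
        apply hrC
        have h5 : (⟨r, hr⟩ : U) ∈ C.subgroupOf U := by
          rw [h4]; exact (le_sup_right : zpowers (⟨r, hr⟩ : U) ≤ _) (mem_zpowers _)
        exact h5
    have hZ : (⊤ : Subgroup U) ≤ centralizer ((⊤ : Subgroup U) : Set U) := by
      have hrz : ∀ u : U, u * (⟨r, hr⟩ : U) = (⟨r, hr⟩ : U) * u := fun u => Subtype.ext (hrc u u.2)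
      have hA : ∀ a ∈ C.subgroupOf U, ∀ u : U, u * a = a * u := by
        intro a ha
        have h6 : (⊤ : Subgroup U) ≤ centralizer ({a} : Set U) := by
          rw [← hmax, sup_le_iff]
          constructor
          · intro b hb
            rw [mem_centralizer_singleton_iff]
            exact congrArg Subtype.val (hcomm ⟨b, hb⟩ ⟨a, ha⟩)
          · rw [zpowers_le, mem_centralizer_singleton_iff]
            exact (hrz a).symm
        intro u
        exact mem_centralizer_singleton_iff.1 (h6 (mem_top u))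
      rw [← hmax, sup_le_iff]
      constructor
      · intro a ha
        rw [mem_centralizer_iff]
        intro u _
        exact hA a ha u
      · rw [zpowers_le, mem_centralizer_iff]
        intro u _
        exact hrz u
    have h7 := mem_centralizer_iff.1 (hZ (mem_top (⟨y, hy⟩ : U))) ⟨x, hx⟩ (mem_top _)
    exact hxy (congrArg Subtype.val h7)
  · have h8 : C.subgroupOf U = ⊤ := Subgroup.eq_top_of_card_eq _ (by rw [e2, hU]; norm_num)
    apply hrC
    have h9 : (⟨r, hr⟩ : U) ∈ C.subgroupOf U := by rw [h8]; exact mem_top _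
    exact h9

end abs


/-! ### the fourth Janko group -/

section J4

open Cfsg.Agent.J4 Cfsg.Agent.J4.M24Hom Cfsg.Agent.J4.Rel Cfsg.Agent.J4.Upper Cfsg.Agent.J4.Pres Cfsg.Agent.J4.Rep112
  Cfsg.Agent.H492.JFour Cfsg.Agent.H492.JFourDis Cfsg.Agent.H492.NodeHecke Cfsg.Agent.H492 Cfsg.Agent.HN.Count
  DoubleCoset Cfsg.Agent.H762.RatB.J4

/-- the label of the double coset -/
def lab (g : Cfsg.Spor.J4) : Fin 7 := cls (nd.node g)

theorem hself (g : Cfsg.Spor.J4) :
    g ∈ doubleCoset (cc (nd.node g)) (BB : Set Cfsg.Spor.J4) (BB : Set Cfsg.Spor.J4) :=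
  (nd.mem_dc g _).2 (mem_doubleCoset_self BB BB _)

theorem hmemc (g : Cfsg.Spor.J4) (k : ℕ) (hk : k < 20) :
    cc k ∈ doubleCoset g (BB : Set Cfsg.Spor.J4) (BB : Set Cfsg.Spor.J4) ↔ cls k = lab g := by
  have e1 := doubleCoset_eq_of_mem (hself g)
  rw [e1]
  exact ⟨fun h1 => (hdis _ (nd.node_lt g) k hk h1).symm, fun h1 => hm _ (nd.node_lt g) k hk h1.symm⟩

theorem rp_lt (i : Fin 7) : rp i < 20 := by revert i; decide

theorem cls_rp (i : Fin 7) : cls (rp i) = i := by revert i; decide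

theorem lab_rp (i : Fin 7) : lab (cc (rp i)) = i := by
  show cls (nd.node (cc (rp i))) = i
  rw [nd.node_c (rp_lt i), cls_rp]

theorem lab_dc (g : Cfsg.Spor.J4) (i : Fin 7) :
    g ∈ doubleCoset (cc (rp i)) (BB : Set Cfsg.Spor.J4) (BB : Set Cfsg.Spor.J4) ↔ lab g = i := by
  rw [nd.mem_dc, hmemc _ _ (nd.node_lt g), lab_rp]
  exact Iff.rfl

theorem sz_lab (g : Cfsg.Spor.J4) : sz BB g = ss (lab g) := by
  have h : TT g = {lab g} := by
    ext i
    rw [mem_TT', Finset.mem_singleton]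
    constructor
    · rintro ⟨k, hk, rfl, hd⟩
      exact (hmemc g k hk).1 hd
    · rintro rfl
      exact ⟨nd.node g, nd.node_lt g, rfl, (hmemc g _ (nd.node_lt g)).2 rfl⟩
  rw [sz_TT, h, Finset.sum_singleton]

theorem card_lab (i : Fin 7) : Nat.card {g : Cfsg.Spor.J4 // lab g = i} = Nat.card BB * ss i := by
  have e1 := H492.IMSph.card_doubleCoset BB (cc (rp i))
  rw [sz_lab, lab_rp] at e1
  rw [← e1]
  exact Nat.card_congr (Equiv.subtypeEquivRight fun g => (lab_dc g i).symm)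

theorem lab_mul_left {b : Cfsg.Spor.J4} (hb : b ∈ BB) (g : Cfsg.Spor.J4) : lab (b * g) = lab g :=
  (lab_dc (b * g) (lab g)).1 ((dc_mul_left BB _ hb g).2 ((lab_dc g _).2 rfl))

theorem lab_mul_right {b : Cfsg.Spor.J4} (hb : b ∈ BB) (g : Cfsg.Spor.J4) : lab (g * b) = lab g :=
  (lab_dc (g * b) (lab g)).1 ((dc_mul_right BB _ hb g).2 ((lab_dc g _).2 rfl))

theorem lab_one : lab 1 = 0 := by
  have h : cc (rp 0) = 1 := cc_zero
  rw [← h, lab_rp]

theorem lab_of_mem {b : Cfsg.Spor.J4} (hb : b ∈ BB) : lab b = 0 := by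
  have := lab_mul_left hb 1
  rwa [mul_one, lab_one] at this

theorem sph {χ : IrrCharacter Cfsg.Spor.J4} {v : Fin 7 → ℂ}
    (h : ∀ (φ : Cfsg.Spor.J4 → ℂ), φ = χ → ∀ i, ∑ᶠ b : BB, φ (cc (rp i) * b) = Nat.card BB * v i) [Fintype BB]
    (g : Cfsg.Spor.J4) : ∑ b : BB, (χ : Cfsg.Spor.J4 → ℂ) (g * b) = Nat.card BB * v (lab g) := by
  obtain ⟨a, ha, b, hb, e⟩ := mem_doubleCoset.1 ((lab_dc g _).2 rfl)
  have h1 := h _ rfl (lab g)
  rw [finsum_eq_sum_of_fintype] at h1
  rw [← h1]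
  let f : BB ≃ BB := (Equiv.mulLeft ⟨b, hb⟩).trans (Equiv.mulRight ⟨a, ha⟩)
  refine Fintype.sum_equiv f _ _ fun x => ?_
  show (χ : Cfsg.Spor.J4 → ℂ) (g * x) = (χ : Cfsg.Spor.J4 → ℂ) (cc (rp (lab g)) * (b * x * a))
  refine Cfsg.Agent.Blocks.Basic.irr_isConj χ.2 (isConj_iff.2 ⟨a⁻¹, ?_⟩)
  have e2 : a⁻¹ * (g * x) * a⁻¹⁻¹ = a⁻¹ * g * (x * a) := by group
  have e3 : a⁻¹ * g = cc (rp (lab g)) * b := by
    rw [inv_mul_eq_iff_eq_mul, ← mul_assoc]
    exact e
  rw [e2, e3]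
  simp only [mul_assoc]

/-! ### the frame -/

theorem zrho_sq {K : Type*} [Group K] (F : J4Type.Compl K) {x : K} (hx : x ∈ zpowers (F.z * F.ρ)) (h2 : x * x = 1) (h1 : x ≠ 1) :
    x = F.z := by
  have h6 : orderOf (F.z * F.ρ) = 6 := H856.SylowThree.orderOf_zrho F
  have hz : F.z ^ 2 = 1 := by rw [← F.z_order]; exact pow_orderOf_eq_one _
  have hr : F.ρ ^ 3 = 1 := by rw [← F.ρ_order]; exact pow_orderOf_eq_one _
  have hc : Commute F.z F.ρ := F.ρ_comm.symm
  have h3 : (F.z * F.ρ) ^ 3 = F.z := by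
    rw [hc.mul_pow, hr, mul_one, pow_succ, hz, one_mul]
  obtain ⟨k, rfl⟩ := mem_zpowers_iff.1 hx
  have h4 : (6 : ℤ) ∣ k + k := by
    have h5 : ((orderOf (F.z * F.ρ) : ℕ) : ℤ) ∣ k + k := orderOf_dvd_iff_zpow_eq_one.2 (by rw [zpow_add]; exact h2)
    rw [h6] at h5
    exact_mod_cast h5
  obtain ⟨j, rfl⟩ : ∃ j, k = 3 * j := ⟨k / 3, by omega⟩
  have e1 : (F.z * F.ρ) ^ (3 * j) = F.z ^ j := by
    rw [zpow_mul]
    congr 1
    exact_mod_cast h3
  rw [e1] at h1 ⊢
  rcases Int.even_or_odd' j with ⟨i, rfl | rfl⟩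
  · exfalso
    apply h1
    rw [zpow_mul]
    have : F.z ^ (2 : ℤ) = 1 := by exact_mod_cast hz
    rw [this, one_zpow]
  · rw [zpow_add, zpow_mul]
    have : F.z ^ (2 : ℤ) = 1 := by exact_mod_cast hz
    rw [this, one_zpow, one_mul, zpow_one]

theorem exists_frame {U : Subgroup Cfsg.Spor.J4} (hU : Nat.card U = 27) (hUe : ∀ x ∈ U, e * x = x * e) :
    ∃ (F : J4Type.Compl Cfsg.Spor.J4) (g : Cfsg.Spor.J4), (∀ x, x ∈ U ↔ g⁻¹ * x * g ∈ H856.SylowThree.R1 F) ∧
      e = g * F.z * g⁻¹ := by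
  have h3 : Fact (Nat.Prime 3) := ⟨Nat.prime_three⟩
  obtain ⟨F⟩ := exists_compl
  obtain ⟨S, hS⟩ := H856.SylowThree.exists_sylow F
  have hp : IsPGroup 3 U := IsPGroup.of_card (n := 3) (by rw [hU]; norm_num)
  let P : Sylow 3 Cfsg.Spor.J4 := hp.toSylow (index_U hU)
  obtain ⟨g, hg⟩ := MulAction.exists_smul_eq Cfsg.Spor.J4 S P
  have hmem : ∀ x, x ∈ U ↔ g⁻¹ * x * g ∈ H856.SylowThree.R1 F := by
    intro x
    have h1 : ((g • S : Sylow 3 Cfsg.Spor.J4) : Subgroup Cfsg.Spor.J4) = U := by rw [hg]; rfl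
    rw [← h1, Sylow.coe_subgroup_smul, ← hS]
    constructor
    · rintro ⟨y, hy, hyx⟩
      have h3 : g * y * g⁻¹ = x := hyx
      have h2 : g⁻¹ * x * g = y := by
        rw [← h3]
        group
      rw [h2]
      exact hy
    · intro hx
      refine ⟨g⁻¹ * x * g, hx, ?_⟩
      show g * (g⁻¹ * x * g) * g⁻¹ = x
      group
  refine ⟨F, g, hmem, ?_⟩
  have hc := H745.RvJ4.cent_R1 F
  have h4 : g⁻¹ * e * g ∈ centralizer (H856.SylowThree.R1 F : Set Cfsg.Spor.J4) := by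
    rw [mem_centralizer_iff]
    intro r hr
    have hr' : g * r * g⁻¹ ∈ U := by
      rw [hmem]
      have : g⁻¹ * (g * r * g⁻¹) * g = r := by group
      rw [this]
      exact hr
    have h2 := hUe _ hr'
    calc r * (g⁻¹ * e * g) = g⁻¹ * (g * r * g⁻¹ * e) * g := by group
      _ = g⁻¹ * (e * (g * r * g⁻¹)) * g := by rw [h2]
      _ = _ := by group
  rw [hc] at h4
  have h5 : g⁻¹ * e * g = F.z := by
    refine zrho_sq F h4 ?_ ?_
    · have : g⁻¹ * e * g * (g⁻¹ * e * g) = g⁻¹ * (e * e) * g := by group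
      rw [this, e_sq']
      group
    · intro h
      apply e_ne
      have : e = g * (g⁻¹ * e * g) * g⁻¹ := by group
      rw [this, h]
      group
  rw [← h5]
  group

theorem card_cent_z {K : Type*} [Group K] [Finite K] (F : J4Type.Compl K) :
    Nat.card (centralizer ({F.z} : Set K)) ≤ 21799895040 := by
  have h1 : Nat.card F.P.ker ≤ 8192 * 3 := by
    have hq : ∀ c : F.P.ker, ∃ x : F.Q × Fin 3, ((c : centralizer ({F.z} : Set K)) : K) = x.1 * F.ρ ^ (x.2 : ℕ) := by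
      rintro ⟨c, hc⟩
      obtain ⟨q, hq, i, hi⟩ := (F.P_ker c).1 hc
      have hr : F.ρ ^ 3 = 1 := by rw [← F.ρ_order]; exact pow_orderOf_eq_one _
      refine ⟨⟨⟨q, hq⟩, ⟨i % 3, Nat.mod_lt _ (by norm_num)⟩⟩, ?_⟩
      show (c : K) = q * F.ρ ^ (i % 3)
      rw [hi, ← F.ρ_order, pow_mod_orderOf]
    choose f hf using hq
    have hinj : Function.Injective f := by
      intro a b hab
      apply Subtype.ext
      apply Subtype.ext
      rw [hf a, hf b, hab]
    have := Nat.card_le_card_of_injective f hinj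
    rw [Nat.card_prod, F.Q_card, Nat.card_fin] at this
    norm_num at this ⊢
    exact this
  rw [H856.SylowThree.card_C]
  omega

theorem card_cent_e {U : Subgroup Cfsg.Spor.J4} (hU : Nat.card U = 27) (hUe : ∀ x ∈ U, e * x = x * e) :
    Nat.card (centralizer ({e} : Set Cfsg.Spor.J4)) ≤ 21799895040 := by
  obtain ⟨F, g, -, he⟩ := exists_frame hU hUe
  refine le_trans (Nat.card_le_card_of_injective (fun c : centralizer ({e} : Set Cfsg.Spor.J4) =>
    (⟨g⁻¹ * c * g, ?_⟩ : centralizer ({F.z} : Set Cfsg.Spor.J4))) ?_) (card_cent_z F)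
  · have h1 := mem_centralizer_singleton_iff.1 c.2
    rw [mem_centralizer_singleton_iff]
    have h1 : (c : Cfsg.Spor.J4) * (g * F.z * g⁻¹) = (g * F.z * g⁻¹) * c := by rw [← he]; exact h1
    calc g⁻¹ * c * g * F.z = g⁻¹ * (c * (g * F.z * g⁻¹)) * g := by group
      _ = g⁻¹ * (g * F.z * g⁻¹ * c) * g := by rw [h1]
      _ = _ := by group
  · rintro ⟨c, hc⟩ ⟨c', hc'⟩ h
    have h5 := congrArg Subtype.val h
    simp only [mul_left_inj, mul_right_inj] at h5
    exact Subtype.ext h5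

/-! ### the involution is in `2 ^ 11` -/

theorem e_mem_EJ : e ∈ Cfsg.Agent.J4.Invol.EJ := by
  have h1 : e = phi mM * Cfsg.Agent.J4.Upper1.sE phi Rep112.t * (phi mM)⁻¹ := eE_eq trel.sq
  rw [h1, H858.VK.sE_eq]
  exact (mem_normalizer_iff.1 (H858.VK.phi_norm ⟨mM, rfl⟩) _).1 (Cfsg.Agent.J4.Invol.s_mem H858.VK.rho_injective)

theorem EJ_conj (b : Cfsg.Spor.J4) (hb : b ∈ BB) (v : Cfsg.Spor.J4) (hv : v ∈ Cfsg.Agent.J4.Invol.EJ) :
    b * v * b⁻¹ ∈ Cfsg.Agent.J4.Invol.EJ := by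
  obtain ⟨a, ha, k, rfl⟩ := H858.VK.mem_B.1 hb
  have h1 := (mem_normalizer_iff.1 (H858.VK.phi_norm ⟨k, rfl⟩) _).1 hv
  have h2 : a * phi k * v * (a * phi k)⁻¹ = a * (phi k * v * (phi k)⁻¹) * a⁻¹ := by group
  rw [h2]
  exact mul_mem (mul_mem ha h1) (inv_mem ha)

/-- an element commuting with `e` has label 0, 1 or 2 -/
theorem lab_of_comm {U : Subgroup Cfsg.Spor.J4} (hU : Nat.card U = 27) (hUe : ∀ x ∈ U, e * x = x * e)
    {x : Cfsg.Spor.J4} (hx : x * e = e * x) : ss (lab x) < 3400320 := by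
  have h1 := card_le_of_comm BB Cfsg.Agent.J4.Invol.EJ EJ_conj e_mem_EJ {y | lab y = lab x} (w := x) ?_ hx
  · have h2 : Nat.card ({y | lab y = lab x} : Set Cfsg.Spor.J4) = Nat.card BB * ss (lab x) := card_lab (lab x)
    have h3 : Nat.card Cfsg.Agent.J4.Invol.EJ = 2 ^ 11 := Cfsg.Agent.J4.Invol.card_EJ H858.VK.rho_injective
    rw [h2, h3, card_BB] at h1
    have h4 := card_cent_e hU hUe
    have h5 : 501397585920 * ss (lab x) ≤ 2 ^ 11 * 2 ^ 11 * 21799895040 :=
      h1.trans (Nat.mul_le_mul_left _ h4)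
    omega
  · intro y hy
    have h2 : y ∈ doubleCoset x (BB : Set Cfsg.Spor.J4) (BB : Set Cfsg.Spor.J4) := by
      rw [nd.mem_dc, hmemc _ _ (nd.node_lt y)]
      exact hy
    obtain ⟨a, ha, b, hb, h3⟩ := mem_doubleCoset.1 h2
    exact ⟨a, ha, b, hb, h3⟩

/-! ### divisibility -/

section dvd

variable {U : Subgroup Cfsg.Spor.J4} (hU : Nat.card U = 27) (hUB : U ≤ BB) (hUe : ∀ x ∈ U, e * x = x * e)

include hU hUB hUe

/-- the centralizer of `U` is in `B` -/
theorem cent_le {x : Cfsg.Spor.J4} (hx : x ∈ centralizer (U : Set Cfsg.Spor.J4)) : x ∈ BB := by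
  obtain ⟨F, g, hmem, he⟩ := exists_frame hU hUe
  have h1 : g⁻¹ * x * g ∈ centralizer (H856.SylowThree.R1 F : Set Cfsg.Spor.J4) := by
    rw [mem_centralizer_iff]
    intro r hr
    have hr' : g * r * g⁻¹ ∈ U := by
      rw [hmem]
      have : g⁻¹ * (g * r * g⁻¹) * g = r := by group
      rw [this]
      exact hr
    have h2 := mem_centralizer_iff.1 hx _ hr'
    calc r * (g⁻¹ * x * g) = g⁻¹ * (g * r * g⁻¹ * x) * g := by group
      _ = g⁻¹ * (x * (g * r * g⁻¹)) * g := by rw [h2]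
      _ = _ := by group
  rw [H745.RvJ4.cent_R1 F] at h1
  obtain ⟨k, hk⟩ := mem_zpowers_iff.1 h1
  have h2 : x = (g * (F.z * F.ρ) * g⁻¹) ^ k := by
    rw [conj_zpow, hk]
    group
  rw [h2]
  refine zpow_mem ?_ k
  have h3 : g * (F.z * F.ρ) * g⁻¹ = e * (g * F.ρ * g⁻¹) := by rw [he]; group
  rw [h3]
  refine mul_mem e_mem (hUB ?_)
  rw [hmem]
  have : g⁻¹ * (g * F.ρ * g⁻¹) * g = F.ρ := by group
  rw [this]
  exact H856.SylowThree.rho_mem F

theorem three_dvd (g0 : Cfsg.Spor.J4) (i : Fin 7) (hi : i ≠ 0) :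
    3 ∣ Nat.card ({x | IsConj g0 x ∧ lab x = i} : Set Cfsg.Spor.J4) := by
  refine dvd_card_conj U _ ?_ 3 ?_
  · rintro u hu x ⟨h1, h2⟩
    refine ⟨h1.trans (isConj_iff.2 ⟨u, rfl⟩), ?_⟩
    rw [lab_mul_right (BB.inv_mem (hUB hu)), lab_mul_left (hUB hu), h2]
  · rintro x ⟨-, h2⟩
    by_contra h3
    have h4 := ((centralizer ({x} : Set Cfsg.Spor.J4)).subgroupOf U).index_dvd_card
    rw [hU] at h4
    have h5 : ((centralizer ({x} : Set Cfsg.Spor.J4)).subgroupOf U).index = 1 := by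
      have h6 : ((centralizer ({x} : Set Cfsg.Spor.J4)).subgroupOf U).index ∣ 3 ^ 3 := by
        norm_num
        exact h4
      obtain ⟨k, -, h7⟩ := (Nat.dvd_prime_pow Nat.prime_three).1 h6
      rcases Nat.eq_zero_or_pos k with rfl | hk
      · exact h7
      · exact absurd (h7 ▸ dvd_pow_self 3 hk.ne') h3
    rw [index_eq_one, subgroupOf_eq_top] at h5
    have h6 : x ∈ centralizer (U : Set Cfsg.Spor.J4) := by
      rw [mem_centralizer_iff]
      intro u hu
      exact mem_centralizer_singleton_iff.1 (h5 hu)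
    apply hi
    rw [← h2, lab_of_mem (cent_le hU hUB hUe h6)]

theorem nine_dvd (g0 : Cfsg.Spor.J4) (i : Fin 7) (hi : 3400320 ≤ ss i) :
    9 ∣ Nat.card ({x | IsConj g0 x ∧ lab x = i} : Set Cfsg.Spor.J4) := by
  obtain ⟨F, g, hmem, he⟩ := exists_frame hU hUe
  have hrU : g * F.ρ * g⁻¹ ∈ U := by
    rw [hmem]
    have : g⁻¹ * (g * F.ρ * g⁻¹) * g = F.ρ := by group
    rw [this]
    exact H856.SylowThree.rho_mem F
  have hrc : ∀ u ∈ U, u * (g * F.ρ * g⁻¹) = (g * F.ρ * g⁻¹) * u := by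
    intro u hu
    have h1 : F.ρ ∈ centralizer (H856.SylowThree.R1 F : Set Cfsg.Spor.J4) := by
      rw [H745.RvJ4.cent_R1 F, mem_zpowers_iff]
      have hz : F.z ^ 2 = 1 := by rw [← F.z_order]; exact pow_orderOf_eq_one _
      have hr : F.ρ ^ 3 = 1 := by rw [← F.ρ_order]; exact pow_orderOf_eq_one _
      have hc : Commute F.z F.ρ := F.ρ_comm.symm
      refine ⟨4, ?_⟩
      have h3 : (F.z * F.ρ) ^ 4 = F.ρ := by
        rw [hc.mul_pow, show F.z ^ 4 = (F.z ^ 2) ^ 2 by rw [← pow_mul], hz, one_pow, one_mul, pow_succ, hr, one_mul]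
      exact_mod_cast h3
    have h2 := mem_centralizer_iff.1 h1 _ ((hmem u).1 hu)
    calc u * (g * F.ρ * g⁻¹) = g * (g⁻¹ * u * g * F.ρ) * g⁻¹ := by group
      _ = g * (F.ρ * (g⁻¹ * u * g)) * g⁻¹ := by rw [h2]
      _ = _ := by group
  have hna : ∃ x ∈ U, ∃ y ∈ U, x * y ≠ y * x := by
    obtain ⟨x, hx, y, hy, hxy⟩ := H856.SylowThree.not_comm_R1 F
    refine ⟨g * x * g⁻¹, ?_, g * y * g⁻¹, ?_, ?_⟩
    · rw [hmem]
      have : g⁻¹ * (g * x * g⁻¹) * g = x := by group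
      rw [this]
      exact hx
    · rw [hmem]
      have : g⁻¹ * (g * y * g⁻¹) * g = y := by group
      rw [this]
      exact hy
    · intro h
      apply hxy
      have e1 : g * x * g⁻¹ * (g * y * g⁻¹) = g * (x * y) * g⁻¹ := by group
      have e2 : g * y * g⁻¹ * (g * x * g⁻¹) = g * (y * x) * g⁻¹ := by group
      rw [e1, e2] at h
      exact mul_left_cancel (mul_right_cancel h)
  refine dvd_card_conj U _ ?_ 9 ?_
  · rintro u hu x ⟨h1, h2⟩
    refine ⟨h1.trans (isConj_iff.2 ⟨u, rfl⟩), ?_⟩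
    rw [lab_mul_right (BB.inv_mem (hUB hu)), lab_mul_left (hUB hu), h2]
  · rintro x ⟨-, h2⟩
    by_contra h3
    have h4 := mem_of_card hU hrU hrc hna _ h3
    have h5 : g * F.ρ * g⁻¹ * x = x * (g * F.ρ * g⁻¹) := mem_centralizer_singleton_iff.1 h4
    have h6 : (g⁻¹ * x * g) * F.ρ = F.ρ * (g⁻¹ * x * g) := by
      calc (g⁻¹ * x * g) * F.ρ = g⁻¹ * (x * (g * F.ρ * g⁻¹)) * g := by group
        _ = g⁻¹ * (g * F.ρ * g⁻¹ * x) * g := by rw [h5]
        _ = _ := by group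
    have h7 := H856.CentRho.cent_rho F h6
    have h8 : x * e = e * x := by
      rw [he]
      calc x * (g * F.z * g⁻¹) = g * (g⁻¹ * x * g * F.z) * g⁻¹ := by group
        _ = g * (F.z * (g⁻¹ * x * g)) * g⁻¹ := by rw [h7]
        _ = _ := by group
    have h9 := lab_of_comm hU hUe h8
    rw [h2] at h9
    omega

end dvd

/-! ### the local ideal -/

theorem li_of {M : Ideal AlgInt} (hM : IsPModular 3 M) {s : ℂ} (hs : s ^ 2 = 33) (a b : ℤ) (N : ℕ) (hN : ¬ 3 ∣ N) {z : ℂ}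
    (h : (N : ℂ) * z = 3 * a + s * b) : MemLocalIdeal M z := by
  have hMp := Cfsg.Agent.Blocks.LocalRing.isPrime hM
  have h3 : (3 : AlgInt) ∈ M := by
    have := Cfsg.Agent.Blocks.LocalRing.prime_mem hM
    exact_mod_cast this
  have hint : IsIntegral ℤ s := by
    refine IsIntegral.of_pow (n := 2) (by norm_num) ?_
    rw [hs]
    exact isIntegral_algebraMap (R := ℤ) (A := ℂ) (x := 33)
  have hN' : (N : AlgInt) ∉ M := by
    rw [Cfsg.Agent.Blocks.LocalRing.natCast_mem_iff hM]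
    exact hN
  have hs2 : (⟨s, hint⟩ : AlgInt) ∈ M := by
    refine hMp.mem_of_pow_mem 2 ?_
    have e1 : (⟨s, hint⟩ : AlgInt) ^ 2 = ((33 : ℕ) : AlgInt) := by
      apply Subtype.ext
      have e0 : (((33 : ℕ) : AlgInt) : ℂ) = ((33 : ℕ) : ℂ) := by push_cast; rfl
      rw [e0]
      show s ^ 2 = _
      rw [hs]
      norm_num
    rw [e1, Cfsg.Agent.Blocks.LocalRing.natCast_mem_iff hM]
    norm_num
  refine ⟨3 * (a : AlgInt) + (⟨s, hint⟩ : AlgInt) * (b : AlgInt), (N : AlgInt), ?_, hN', ?_⟩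
  · exact M.add_mem (M.mul_mem_right _ h3) (M.mul_mem_right _ hs2)
  · have hN0 : (N : ℂ) ≠ 0 := by
      intro h0
      apply hN
      have : N = 0 := by exact_mod_cast h0
      rw [this]
      exact dvd_zero _
    have e2 : ((3 * (a : AlgInt) + (⟨s, hint⟩ : AlgInt) * (b : AlgInt) : AlgInt) : ℂ) = 3 * a + s * b := by
      push_cast
      rfl
    rw [e2, ← h]
    have e3 : (((N : AlgInt)) : ℂ) = N := by push_cast; rfl
    rw [e3]
    field_simp

theorem block_three (M : Ideal AlgInt) (hM : IsPModular 3 M) : ∃ χ : IrrCharacter Cfsg.Spor.J4,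
    χ ∈ principalBlock M Cfsg.Spor.J4 ∧ (χ : Cfsg.Spor.J4 → ℂ) 1 = (35411145 : ℕ) := by
  have := Fintype.ofFinite Cfsg.Spor.J4
  have := Fintype.ofFinite BB
  obtain ⟨U, hU, hUB, hUe⟩ := exists_U
  obtain ⟨s, hs⟩ : ∃ s : ℂ, s ^ 2 = 33 := IsAlgClosed.exists_pow_nat_eq 33 (by norm_num)
  obtain ⟨χ, hχ, -, hsp⟩ := K4J4.val_35411145 s hs
  obtain ⟨v0, v1, v2, v3, v4, v5, v6⟩ := IMJ4.vE_eq s
  refine ⟨χ, ?_, hχ⟩
  intro g
  -- the central character
  have h1 := centralChar_eq_sum χ BB lab (IMJ4.vE s) (sph hsp) (by rw [lab_one]; exact v0) g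
  set F := Finset.univ.filter (fun x : Cfsg.Spor.J4 => IsConj g x) with hF
  have hc : ∀ i : Fin 7, Nat.card ({x | IsConj g x ∧ lab x = i} : Set Cfsg.Spor.J4) =
      (F.filter fun x => lab x = i).card := by
    intro i
    refine Nat.subtype_card _ fun x => ?_
    rw [hF, Finset.mem_filter, Finset.mem_filter]
    exact ⟨fun h => ⟨h.1.2, h.2⟩, fun h => ⟨⟨Finset.mem_univ _, h.1⟩, h.2⟩⟩
  have h2 : centralChar (χ : Cfsg.Spor.J4 → ℂ) g =
      ∑ i : Fin 7, (((F.filter fun x => lab x = i).card : ℕ) : ℂ) * IMJ4.vE s i := by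
    rw [h1, ← Finset.sum_fiberwise F lab]
    refine Finset.sum_congr rfl fun i _ => ?_
    rw [Finset.sum_congr rfl (g := fun _ => IMJ4.vE s i) fun x hx => by rw [(Finset.mem_filter.1 hx).2],
      Finset.sum_const, nsmul_eq_mul]
  have h3 : centralChar (fun _ : Cfsg.Spor.J4 => (1 : ℂ)) g =
      ∑ i : Fin 7, (((F.filter fun x => lab x = i).card : ℕ) : ℂ) := by
    have e1 : F.card = ∑ i : Fin 7, (F.filter fun x => lab x = i).card :=
      Finset.card_eq_sum_card_fiberwise fun x _ => Finset.mem_univ _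
    have e2 : F.card = (centralizer ({g} : Set Cfsg.Spor.J4)).index := by
      rw [hF]
      exact Cfsg.Agent.Characters.ClassMul.card_filter_isConj g
    rw [centralChar, mul_one, div_one, ← e2, e1]
    push_cast
    rfl
  have t1 := three_dvd hU hUB hUe g 1 (by decide)
  have t2 := three_dvd hU hUB hUe g 2 (by decide)
  have t3 := nine_dvd hU hUB hUe g 3 (by decide)
  have t4 := nine_dvd hU hUB hUe g 4 (by decide)
  have t5 := nine_dvd hU hUB hUe g 5 (by decide)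
  have t6 := nine_dvd hU hUB hUe g 6 (by decide)
  rw [hc] at t1 t2 t3 t4 t5 t6
  obtain ⟨a1, a1h⟩ := t1
  obtain ⟨a2, a2h⟩ := t2
  obtain ⟨a3, a3h⟩ := t3
  obtain ⟨a4, a4h⟩ := t4
  obtain ⟨a5, a5h⟩ := t5
  obtain ⟨a6, a6h⟩ := t6
  have w1 : MemLocalIdeal M (3 - 3 * IMJ4.vE s 1) :=
    li_of hM hs 5038 (-17) 5060 (by norm_num) (by rw [v1]; push_cast; ring)
  have w2 : MemLocalIdeal M (3 - 3 * IMJ4.vE s 2) :=
    li_of hM hs 28237 57 28336 (by norm_num) (by rw [v2]; push_cast; ring)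
  have w3 : MemLocalIdeal M (9 - 9 * IMJ4.vE s 3) :=
    li_of hM hs 154613 (-21) 51520 (by norm_num) (by rw [v3]; push_cast; ring)
  have w4 : MemLocalIdeal M (9 - 9 * IMJ4.vE s 4) :=
    li_of hM hs 340043 31 113344 (by norm_num) (by rw [v4]; push_cast; ring)
  have w5 : MemLocalIdeal M (9 - 9 * IMJ4.vE s 5) :=
    li_of hM hs 6800959 (-123) 2266880 (by norm_num) (by rw [v5]; push_cast; ring)
  have w6 : MemLocalIdeal M (9 - 9 * IMJ4.vE s 6) :=
    li_of hM hs 53757 (-1) 17920 (by norm_num) (by rw [v6]; push_cast; ring)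
  have hmul : ∀ (n : ℕ) {w : ℂ}, MemLocalIdeal M w → MemLocalIdeal M ((n : ℂ) * w) := fun n w hw =>
    Cfsg.Agent.Blocks.LocalRing.memLocalIdeal_mul_left hM (Cfsg.Agent.Blocks.LocalRing.memLocalRing_natCast hM n) hw
  have hadd : ∀ {w w' : ℂ}, MemLocalIdeal M w → MemLocalIdeal M w' → MemLocalIdeal M (w + w') := fun hw hw' =>
    Cfsg.Agent.Blocks.LocalRing.memLocalIdeal_add hM hw hw'
  have h4 : centralChar (fun _ : Cfsg.Spor.J4 => (1 : ℂ)) g - centralChar (χ : Cfsg.Spor.J4 → ℂ) g =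
      (a1 : ℂ) * (3 - 3 * IMJ4.vE s 1) + ((a2 : ℂ) * (3 - 3 * IMJ4.vE s 2) + ((a3 : ℂ) * (9 - 9 * IMJ4.vE s 3) +
        ((a4 : ℂ) * (9 - 9 * IMJ4.vE s 4) + ((a5 : ℂ) * (9 - 9 * IMJ4.vE s 5) +
          (a6 : ℂ) * (9 - 9 * IMJ4.vE s 6))))) := by
    rw [h2, h3, IMJ4.sum7, IMJ4.sum7, a1h, a2h, a3h, a4h, a5h, a6h, v0]
    push_cast
    ring
  rw [h4]
  exact hadd (hmul _ w1) (hadd (hmul _ w2) (hadd (hmul _ w3) (hadd (hmul _ w4) (hadd (hmul _ w5) (hmul _ w6)))))

/-- **(J₄, 3)** -/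
theorem fact_three (M : Ideal AlgInt) (hM : IsPModular 3 M) : ∃ χ : IrrCharacter Cfsg.Spor.J4,
    χ ∈ principalBlock M Cfsg.Spor.J4 ∧ (charDegree (χ : Cfsg.Spor.J4 → ℂ)).factorization 3 = 1 := by
  obtain ⟨χ, h1, h2⟩ := block_three M hM
  refine ⟨χ, h1, ?_⟩
  rw [Cfsg.Agent.Blocks.Basic.charDegree_of_eq h2]
  have h5 : (35411145 : ℕ) = 3 ^ 1 * 11803715 := by norm_num
  rw [h5, Nat.factorization_mul (by norm_num) (by norm_num), Nat.Prime.factorization_pow (by norm_num)]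
  simp [Nat.factorization_eq_zero_of_not_dvd (show ¬ 3 ∣ 11803715 by norm_num)]

theorem rowIn_three {S : Type} [Group S] (h : Cfsg.Spor.IsoJ4 S) : H316.HT.RowIn 3 S := by
  obtain ⟨e⟩ := h
  exact H825.HT.rowIn_of e fact_three

end J4

end Cfsg.Agent.H299.HT
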